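import Groth.Agent.UnivHomeo.Criteria

/-!
Universal homeomorphisms adjoining one integral element.
-/

set_option autoImplicit false
universe u
open Polynomial AlgebraicGeometry

namespace Groth.Agent.AdjRootLib

variable {A : Type u} [CommRing A] (I : Ideal A[X])

open Groth.Agent.UnivHomeo

theorem chains {weak : Prop} (h : Step weak (Set.range (algebraMap A (A[X] ⧸ I))) (Ideal.Quotient.mk I X))
    (b : A[X] ⧸ I) : ∃ l : List (A[X] ⧸ I), Valid A weak l ∧ b ∈ Algebra.adjoin A {c : A[X] ⧸ I | c ∈ l} := by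
  refine ⟨[Ideal.Quotient.mk I X], fun i => ?_, ?_⟩
  · have hi : [Ideal.Quotient.mk I X].get i = Ideal.Quotient.mk I X := by
      obtain ⟨k, hk⟩ := i
      simp at hk
      subst hk
      rfl
    rw [hi]
    exact h.mono (by rintro _ ⟨a, rfl⟩; exact Subalgebra.algebraMap_mem _ a)
  · obtain ⟨Q, rfl⟩ := Ideal.Quotient.mk_surjective b
    induction Q using Polynomial.induction_on' with
    | add p q hp hq => rw [map_add]; exact add_mem hp hq
    | monomial n a =>
      rw [← C_mul_X_pow_eq_monomial, map_mul, map_pow]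
      exact mul_mem (Subalgebra.algebraMap_mem _ a) (pow_mem (Algebra.subset_adjoin (by simp)) n)

theorem surjective (hex : ∀ (K : Type u) [Field K] [IsAlgClosed K] (φ : A →+* K), ∃ t : K, ∀ Q ∈ I, eval₂ φ t Q = 0) :
    AlgebraicGeometry.Surjective (Spec.map (CommRingCat.ofHom (algebraMap A (A[X] ⧸ I)))) := by
  refine ⟨fun p => ?_⟩
  let K := AlgebraicClosure p.asIdeal.ResidueField
  let φ : A →+* K := (algebraMap p.asIdeal.ResidueField K).comp (algebraMap A p.asIdeal.ResidueField)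
  obtain ⟨t, ht⟩ := hex K φ
  let ψ : A[X] ⧸ I →+* K := Ideal.Quotient.lift I (eval₂RingHom φ t) ht
  refine ⟨⟨RingHom.ker ψ, RingHom.ker_isPrime ψ⟩, PrimeSpectrum.ext ?_⟩
  show (RingHom.ker ψ).comap (algebraMap A (A[X] ⧸ I)) = p.asIdeal
  rw [RingHom.comap_ker, show ψ.comp (algebraMap A (A[X] ⧸ I)) = φ from RingHom.ext fun a => eval₂_C φ t,
    RingHom.ker_comp_of_injective _ (RingHom.injective _)]
  exact Ideal.ker_algebraMap_residueField p.asIdeal

theorem eval₂_eq_zero_of_span {K : Type u} [Field K] (φ : A →+* K) (t : K) (S : Set A[X])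
    (h : ∀ Q ∈ S, eval₂ φ t Q = 0) : ∀ Q ∈ Ideal.span S, eval₂ φ t Q = 0 := fun Q hQ => by
  have : Ideal.span S ≤ RingHom.ker (eval₂RingHom φ t) := Ideal.span_le.2 h
  exact this hQ

theorem mk_eq {Q R : A[X]} (h : Q - R ∈ I) : Ideal.Quotient.mk I Q = Ideal.Quotient.mk I R :=
  (Ideal.Quotient.mk_eq_mk_iff_sub_mem Q R).2 h

end Groth.Agent.AdjRootLib
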